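import Mathlib

/-!
Irreducible and connected components of a limit with dominant transition maps.
-/

set_option autoImplicit false
set_option backward.isDefEq.respectTransparency false
set_option backward.isDefEq.respectTransparency.types false
set_option linter.style.haveILetI false
universe u
open CategoryTheory CategoryTheory.Limits AlgebraicGeometry

namespace LimComp13

variable {I : Type u} [SmallCategory I] [IsCofiltered I]
  (D : I ⥤ Scheme.{u}) (c : Limits.Cone D)

theorem image_image {j k : I} (a : j ⟶ k) (x : c.pt) :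
    D.map a (c.π.app j x) = c.π.app k x := by
  rw [← Scheme.Hom.comp_apply, c.w]; rfl

variable (hc : Limits.IsLimit c) [∀ (i j : I) (f : i ⟶ j), IsAffineHom (D.map f)]
include hc

/-- The projections of a limit with dominant transition maps are dominant. -/
theorem denseRange_π (j : I) (hd : ∀ (k : I) (a : k ⟶ j), IsDominant (D.map a)) :
    DenseRange ⇑(c.π.app j) := by
  rw [denseRange_iff_closure_range, Set.eq_univ_iff_forall]
  intro x
  rw [mem_closure_iff]
  intro o ho hxo
  obtain ⟨_, ⟨V, hV : IsAffineOpen V, rfl⟩, hxV, hVo⟩ :=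
    (D.obj j).isBasis_affineOpens.exists_subset_of_mem_open hxo ho
  have hnon : ∀ k : Over j, Nonempty ↥((opensDiagram D j V).obj k) := fun k => by
    haveI := hd k.left k.hom
    obtain ⟨y, hy⟩ := ((D.map k.hom).denseRange).exists_mem_open V.2 ⟨x, hxV⟩
    exact ⟨⟨y, hy⟩⟩
  have hcpt : ∀ k : Over j, CompactSpace ↥((opensDiagram D j V).obj k) := fun k => by
    exact isCompact_iff_compactSpace.mp (hV.preimage (D.map k.hom)).isCompact
  obtain ⟨s⟩ := Scheme.nonempty_of_isLimit _ _ (isLimitOpensCone D c hc j V)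
  exact ⟨c.π.app j s.1, hVo s.2, ⟨s.1, rfl⟩⟩

/-- A point outside a closed set is separated from it at all sufficiently deep stages. -/
theorem exists_notMem_closure_image (A : Set c.pt) (hA : IsClosed A) (x : c.pt) (hx : x ∉ A) :
    ∃ i : I, ∀ (j : I) (_ : j ⟶ i), c.π.app j x ∉ closure (⇑(c.π.app j) '' A) := by
  obtain ⟨_, ⟨_, ⟨i, V, -, rfl⟩, rfl⟩, hxV, hVA⟩ :=
    (isBasis_preimage_isAffineOpen D c hc).exists_subset_of_mem_open (a := x)
      (u := Aᶜ) hx hA.isOpen_compl
  refine ⟨i, fun j a hj => ?_⟩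
  rw [mem_closure_iff] at hj
  obtain ⟨_, hzV, z, hz, rfl⟩ := hj (D.map a ⁻¹ᵁ V : (D.obj j).Opens) (D.map a ⁻¹ᵁ V).2
    (show D.map a (c.π.app j x) ∈ V by rw [image_image D c a x]; exact hxV)
  refine hVA ?_ hz
  show c.π.app i z ∈ V
  rw [← image_image D c a z]
  exact hzV

/-- Irreducible components descend. -/
theorem exists_bijOn_irreducibleComponents [TopologicalSpace.NoetherianSpace c.pt]
    (hd : ∀ (i j : I) (φ : i ⟶ j), IsDominant (D.map φ)) :
    ∃ i : I, ∀ (j : I) (_ : j ⟶ i),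
      Set.BijOn (fun Y : Set c.pt => closure (⇑(c.π.app j) '' Y : Set (D.obj j)))
        (irreducibleComponents c.pt) (irreducibleComponents (D.obj j)) := by
  classical
  have hfin := TopologicalSpace.NoetherianSpace.finite_irreducibleComponents (α := c.pt)
  haveI := hfin.to_subtype
  have hsep : ∀ p : irreducibleComponents c.pt × irreducibleComponents c.pt, p.1.1 ≠ p.2.1 →
      ∃ (x : c.pt) (i : I), x ∈ p.1.1 ∧
        ∀ (j : I) (_ : j ⟶ i), c.π.app j x ∉ closure (⇑(c.π.app j) '' p.2.1) := by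
    intro p hp
    obtain ⟨x, hx, hx'⟩ := Set.not_subset.mp
      (fun h : p.1.1 ⊆ p.2.1 => hp (h.antisymm (p.1.2.2 p.2.2.1 h)))
    obtain ⟨i, hi⟩ := exists_notMem_closure_image D c hc p.2.1
      (isClosed_of_mem_irreducibleComponents _ p.2.2) x hx'
    exact ⟨x, i, hx, hi⟩
  choose x i hx hi using hsep
  obtain ⟨i₁, hi₁⟩ := IsCofiltered.inf_objs_exists
    (Set.Finite.toFinset (Set.finite_range (fun q : {p : irreducibleComponents c.pt ×
      irreducibleComponents c.pt // p.1.1 ≠ p.2.1} => i q.1 q.2)))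
  refine ⟨i₁, fun j a => ?_⟩
  let f : Set c.pt → Set (D.obj j) := fun Y => closure (⇑(c.π.app j) '' Y)
  have hirr : ∀ Y ∈ irreducibleComponents c.pt, IsIrreducible (f Y) := fun Y hY =>
    (hY.1.image _ (c.π.app j).continuous.continuousOn).closure
  have hinj : ∀ Y ∈ irreducibleComponents c.pt, ∀ Y' ∈ irreducibleComponents c.pt,
      f Y ⊆ f Y' → Y = Y' := by
    intro Y hY Y' hY' hsub
    by_contra hne
    obtain ⟨b⟩ := hi₁ (X := i (⟨Y, hY⟩, ⟨Y', hY'⟩) hne)
      (by simpa using ⟨Y, hY, Y', hY', hne, rfl⟩)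
    exact hi _ hne j (a ≫ b) (hsub (subset_closure ⟨_, hx (⟨Y, hY⟩, ⟨Y', hY'⟩) hne, rfl⟩))
  have hcov : (⋃ Y ∈ irreducibleComponents c.pt, f Y) = Set.univ := by
    rw [Set.eq_univ_iff_forall]
    intro y
    have hdense := denseRange_π D c hc j (fun k b => hd k j b) y
    refine closure_minimal ?_ (hfin.isClosed_biUnion fun Y _ => isClosed_closure) hdense
    rintro _ ⟨z, rfl⟩
    exact Set.mem_biUnion (irreducibleComponent_mem_irreducibleComponents z)
      (subset_closure ⟨z, mem_irreducibleComponent, rfl⟩)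
  have hsub : ∀ T : Set (D.obj j), IsIrreducible T → ∃ Y ∈ irreducibleComponents c.pt, T ⊆ f Y := by
    intro T hT
    obtain ⟨_, ht, hTt⟩ := isIrreducible_iff_sUnion_isClosed.mp hT
      (hfin.toFinset.image f)
      (fun z hz => by
        obtain ⟨Y, -, rfl⟩ := Finset.mem_image.mp hz
        exact isClosed_closure)
      (by
        intro y _
        have : y ∈ ⋃ Y ∈ irreducibleComponents c.pt, f Y := hcov ▸ Set.mem_univ y
        obtain ⟨Y, hY, hy⟩ := Set.mem_iUnion₂.mp this
        exact ⟨f Y, by simpa using ⟨Y, hY, rfl⟩, hy⟩)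
    obtain ⟨Y, hY, rfl⟩ := Finset.mem_image.mp ht
    exact ⟨Y, hfin.mem_toFinset.mp hY, hTt⟩
  refine ⟨fun Y hY => ⟨hirr Y hY, fun T hT hYT => ?_⟩, fun Y hY Y' hY' h => hinj Y hY Y' hY' h.le,
    fun T hT => ?_⟩
  · obtain ⟨Y', hY', hTY'⟩ := hsub T hT
    obtain rfl := hinj Y hY Y' hY' (hYT.trans hTY')
    exact hTY'
  · obtain ⟨Y, hY, hTY⟩ := hsub T hT.1
    exact ⟨Y, hY, ((hT.2 (hirr Y hY) hTY).antisymm hTY)⟩

/-- Connected components descend. -/
theorem exists_bijOn_connectedComponents [TopologicalSpace.NoetherianSpace c.pt]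
    [∀ i, CompactSpace (D.obj i)]
    (hd : ∀ (i j : I) (φ : i ⟶ j), IsDominant (D.map φ)) :
    ∃ i : I, ∀ (j : I) (_ : j ⟶ i),
      Set.BijOn (fun C : Set c.pt => closure (⇑(c.π.app j) '' C : Set (D.obj j)))
        (Set.range (connectedComponent : c.pt → Set c.pt))
        (Set.range (connectedComponent : D.obj j → Set (D.obj j))) := by
  classical
  have hirr := TopologicalSpace.NoetherianSpace.finite_irreducibleComponents (α := c.pt)
  have hfin : (Set.range (connectedComponent : c.pt → Set c.pt)).Finite := by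
    haveI := hirr.to_subtype
    refine (Set.finite_range (fun Y : irreducibleComponents c.pt =>
      connectedComponent Y.2.1.nonempty.some)).subset ?_
    rintro _ ⟨y, rfl⟩
    refine ⟨⟨irreducibleComponent y, irreducibleComponent_mem_irreducibleComponents y⟩, ?_⟩
    exact (connectedComponent_eq ((irreducibleComponent_subset_connectedComponent
      (IsIrreducible.nonempty (isIrreducible_irreducibleComponent (x := y))).some_mem))).symm
  have hopen : ∀ C ∈ Set.range (connectedComponent : c.pt → Set c.pt), IsOpen C := by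
    rintro C ⟨y, rfl⟩
    have hcl : IsClosed (⋃ C ∈ Set.range (connectedComponent : c.pt → Set c.pt) \
        {connectedComponent y}, C) :=
      (hfin.sdiff).isClosed_biUnion fun C hC => by
        obtain ⟨z, rfl⟩ := hC.1
        exact isClosed_connectedComponent
    convert hcl.isOpen_compl using 1
    ext z
    constructor
    · intro hz hz'
      obtain ⟨C, ⟨⟨w, rfl⟩, hne⟩, hzC⟩ := Set.mem_iUnion₂.mp hz'
      exact hne (by rw [Set.mem_singleton_iff, connectedComponent_eq hzC, connectedComponent_eq hz])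
    · intro hz
      by_contra hzy
      exact hz (Set.mem_biUnion (x := connectedComponent z)
        ⟨⟨z, rfl⟩, fun h => hzy (h ▸ mem_connectedComponent)⟩ mem_connectedComponent)
  haveI := hfin.to_subtype
  have hU : ∀ C : Set.range (connectedComponent : c.pt → Set c.pt),
      ∃ (i : I) (V : (D.obj i).Opens), c.π.app i ⁻¹ᵁ V = (⟨C.1, hopen C.1 C.2⟩ : c.pt.Opens) := by
    intro C
    obtain ⟨i, V, -, hV⟩ := exists_preimage_eq D c hc ⟨C.1, hopen C.1 C.2⟩
      (TopologicalSpace.NoetherianSpace.isCompact _)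
    exact ⟨i, V, hV⟩
  choose i V hV using hU
  obtain ⟨i₁, hi₁⟩ := IsCofiltered.inf_objs_exists (Set.Finite.toFinset (Set.finite_range i))
  have hto : ∀ C, Nonempty (i₁ ⟶ i C) := fun C => hi₁ (by simp)
  let W : ∀ C, (D.obj i₁).Opens := fun C => D.map (hto C).some ⁻¹ᵁ V C
  have hW : ∀ (C : Set.range (connectedComponent : c.pt → Set c.pt)) (z : c.pt),
      c.π.app i₁ z ∈ W C ↔ z ∈ C.1 := by
    intro C z
    show D.map (hto C).some (c.π.app i₁ z) ∈ V C ↔ _
    rw [image_image D c]
    exact SetLike.ext_iff.mp (hV C) z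
  obtain ⟨i₂, f₂, hi₂⟩ := exists_map_eq_top D c hc (⨆ C, W C) (by
    refine top_unique fun z _ => ?_
    exact TopologicalSpace.Opens.mem_iSup.mpr
      ⟨⟨_, z, rfl⟩, (hW ⟨_, z, rfl⟩ z).mpr mem_connectedComponent⟩)
  refine ⟨i₂, fun j a => ?_⟩
  let U : ∀ _C : Set.range (connectedComponent : c.pt → Set c.pt), (D.obj j).Opens :=
    fun C => D.map (a ≫ f₂) ⁻¹ᵁ W C
  have hU' : ∀ C (z : c.pt), c.π.app j z ∈ U C ↔ z ∈ C.1 := by
    intro C z
    show D.map (a ≫ f₂) (c.π.app j z) ∈ W C ↔ _
    rw [image_image D c]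
    exact hW C z
  have hdense := denseRange_π D c hc j (fun k b => hd k j b)
  have hdisj : ∀ C C', C ≠ C' → Disjoint (U C : Set (D.obj j)) (U C') := by
    intro C C' hne
    rw [Set.disjoint_iff_inter_eq_empty]
    by_contra h
    obtain ⟨z, hz, hz'⟩ := hdense.exists_mem_open ((U C).2.inter (U C').2)
      (Set.nonempty_iff_ne_empty.mpr h)
    obtain ⟨w, hw⟩ := C.2
    obtain ⟨w', hw'⟩ := C'.2
    have h1 : z ∈ connectedComponent w := hw ▸ (hU' C z).mp hz
    have h2 : z ∈ connectedComponent w' := hw' ▸ (hU' C' z).mp hz'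
    exact hne (Subtype.ext (by rw [← hw, ← hw', connectedComponent_eq h1, connectedComponent_eq h2]))
  have hcov : ∀ y : D.obj j, ∃ C, y ∈ U C := by
    intro y
    have h : D.map a y ∈ D.map f₂ ⁻¹ᵁ (⨆ C, W C) := hi₂ ▸ TopologicalSpace.Opens.mem_top _
    obtain ⟨C, hC⟩ := TopologicalSpace.Opens.mem_iSup.mp
      (show D.map f₂ (D.map a y) ∈ ⨆ C, W C from h)
    refine ⟨C, ?_⟩
    show D.map (a ≫ f₂) y ∈ W C
    rw [D.map_comp, Scheme.Hom.comp_apply]
    exact hC
  have hclopen : ∀ C, IsClopen (U C : Set (D.obj j)) := by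
    intro C
    refine ⟨?_, (U C).2⟩
    rw [← isOpen_compl_iff]
    have : (U C : Set (D.obj j))ᶜ = ⋃ C' ∈ {C' | C' ≠ C}, (U C' : Set (D.obj j)) := by
      ext y
      constructor
      · intro hy
        obtain ⟨C', hC'⟩ := hcov y
        exact Set.mem_biUnion (fun h : C' = C => hy (h ▸ hC')) hC'
      · intro hy hy'
        obtain ⟨C', hne, hC'⟩ := Set.mem_iUnion₂.mp hy
        exact Set.disjoint_left.mp (hdisj C' C hne) hC' hy'
    rw [this]
    exact isOpen_biUnion fun C' _ => (U C').2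
  have heq : ∀ C, closure (⇑(c.π.app j) '' C.1) = (U C : Set (D.obj j)) := by
    intro C
    refine (closure_minimal ?_ (hclopen C).1).antisymm fun y hy => ?_
    · rintro _ ⟨z, hz, rfl⟩
      exact (hU' C z).mpr hz
    · rw [mem_closure_iff]
      intro o ho hyo
      obtain ⟨z, hzo, hzC⟩ := hdense.exists_mem_open (ho.inter (U C).2) ⟨y, hyo, hy⟩
      exact ⟨_, hzo, z, (hU' C z).mp hzC, rfl⟩
  have hconn : ∀ C, _root_.IsPreconnected (U C : Set (D.obj j)) := by
    intro C
    rw [← heq C]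
    obtain ⟨w, hw⟩ := C.2
    exact ((hw ▸ isPreconnected_connectedComponent).image _
      (c.π.app j).continuous.continuousOn).closure
  have hcomp : ∀ C (y : D.obj j), y ∈ U C → connectedComponent y = (U C : Set (D.obj j)) :=
    fun C y hy => ((hclopen C).connectedComponent_subset hy).antisymm
      ((hconn C).subset_connectedComponent hy)
  refine ⟨fun C hC => ?_, fun C hC C' hC' h => ?_, fun T hT => ?_⟩
  · obtain ⟨w, hw⟩ := hC
    have hwU : c.π.app j w ∈ U ⟨C, w, hw⟩ := (hU' _ w).mpr (hw ▸ mem_connectedComponent)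
    exact ⟨c.π.app j w, (hcomp _ _ hwU).trans (heq ⟨C, w, hw⟩).symm⟩
  · obtain ⟨w, hw⟩ := hC
    have hwU : c.π.app j w ∈ (U ⟨C', hC'⟩ : Set (D.obj j)) := by
      rw [← heq]
      simp only at h
      rw [← h]
      exact subset_closure ⟨w, hw ▸ mem_connectedComponent, rfl⟩
    have : w ∈ C' := (hU' _ w).mp hwU
    obtain ⟨w', rfl⟩ := hC'
    rw [← hw, connectedComponent_eq this]
  · obtain ⟨y, rfl⟩ := hT
    obtain ⟨C, hy⟩ := hcov y
    exact ⟨C.1, C.2, (heq C).trans (hcomp C y hy).symm⟩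

end LimComp13
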