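import Groth.Agent.Lib.LimComp13.Core

set_option autoImplicit false
set_option backward.isDefEq.respectTransparency false
set_option backward.isDefEq.respectTransparency.types false
set_option linter.style.haveILetI false
universe u
open CategoryTheory CategoryTheory.Limits AlgebraicGeometry

namespace LimComp13

variable {I : Type u} [SmallCategory I] [IsCofiltered I]
  (D : I ⥤ Scheme.{u}) (c : Limits.Cone D)
  [∀ (i j : I) (f : i ⟶ j), IsAffineHom (D.map f)]

/-- Restricting to the stages over `i₀`. -/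
theorem main (hc : Limits.IsLimit c) (i₀ : I) [CompactSpace (D.obj i₀)]
    [TopologicalSpace.NoetherianSpace c.pt]
    (hd : ∀ (i j : I) (φ : i ⟶ j) (_ : j ⟶ i₀), IsDominant (D.map φ)) :
    (∃ (i : I) (_ : i ⟶ i₀), ∀ (j : I) (_ : j ⟶ i),
      Set.BijOn (fun Y : Set c.pt => closure (⇑(c.π.app j) '' Y : Set (D.obj j)))
        (irreducibleComponents c.pt) (irreducibleComponents (D.obj j))) ∧
    (∃ (i : I) (_ : i ⟶ i₀), ∀ (j : I) (_ : j ⟶ i),
      Set.BijOn (fun C : Set c.pt => closure (⇑(c.π.app j) '' C : Set (D.obj j)))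
        (Set.range (connectedComponent : c.pt → Set c.pt))
        (Set.range (connectedComponent : D.obj j → Set (D.obj j)))) := by
  let D' : Over i₀ ⥤ Scheme.{u} := Over.forget i₀ ⋙ D
  let c' : Limits.Cone D' := c.whisker (Over.forget i₀)
  let hc' : Limits.IsLimit c' := (Functor.Initial.isLimitWhiskerEquiv (Over.forget i₀) c).symm hc
  haveI : ∀ (i j : Over i₀) (f : i ⟶ j), IsAffineHom (D'.map f) :=
    fun i j f => inferInstanceAs (IsAffineHom (D.map f.left))
  haveI : ∀ i, CompactSpace (D'.obj i) := fun i =>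
    QuasiCompact.compactSpace_of_compactSpace (D.map i.hom)
  haveI : TopologicalSpace.NoetherianSpace c'.pt := ‹_›
  have hd' : ∀ (i j : Over i₀) (φ : i ⟶ j), IsDominant (D'.map φ) :=
    fun i j φ => hd i.left j.left φ.left j.hom
  obtain ⟨i, hi⟩ := exists_bijOn_irreducibleComponents D' c' hc' hd'
  obtain ⟨k, hk⟩ := exists_bijOn_connectedComponents D' c' hc' hd'
  exact ⟨⟨i.left, i.hom, fun j a => hi (Over.mk (a ≫ i.hom)) (Over.homMk a rfl)⟩,
    ⟨k.left, k.hom, fun j a => hk (Over.mk (a ≫ k.hom)) (Over.homMk a rfl)⟩⟩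

/-- For topological embeddings into a Noetherian stage, the transition maps are eventually
dominant. -/
theorem exists_isDominant (i₀ : I) [TopologicalSpace.NoetherianSpace (D.obj i₀)]
    (he : ∀ (i j : I) (φ : i ⟶ j), Topology.IsEmbedding ⇑(D.map φ)) :
    ∃ i : I, Nonempty (i ⟶ i₀) ∧ ∀ (k j : I) (φ : k ⟶ j) (_ : j ⟶ i), IsDominant (D.map φ) := by
  obtain ⟨_, ⟨a, rfl⟩, hmin⟩ := (wellFounded_lt (α := TopologicalSpace.Closeds (D.obj i₀))).has_min
    (Set.range fun a : Over i₀ =>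
      (⟨closure (Set.range ⇑(D.map a.hom)), isClosed_closure⟩ : TopologicalSpace.Closeds (D.obj i₀)))
    ⟨_, Over.mk (𝟙 i₀), rfl⟩
  refine ⟨a.left, ⟨a.hom⟩, fun k j φ b => ⟨?_⟩⟩
  have heq : ∀ (l : I) (e : l ⟶ a.left),
      closure (Set.range ⇑(D.map (e ≫ a.hom))) = closure (Set.range ⇑(D.map a.hom)) := by
    intro l e
    have hle : closure (Set.range ⇑(D.map (e ≫ a.hom))) ⊆ closure (Set.range ⇑(D.map a.hom)) := by
      refine closure_mono ?_
      rintro _ ⟨x, rfl⟩
      exact ⟨D.map e x, by rw [D.map_comp, Scheme.Hom.comp_apply]⟩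
    refine hle.eq_or_lt.resolve_right fun hlt => hmin _ ⟨Over.mk (e ≫ a.hom), rfl⟩ ?_
    exact hlt
  rw [denseRange_iff_closure_range, Set.eq_univ_iff_forall]
  intro y
  have h1 : Set.range ⇑(D.map ((φ ≫ b) ≫ a.hom)) =
      ⇑(D.map (b ≫ a.hom)) '' Set.range ⇑(D.map φ) := by
    rw [← Set.range_comp, Category.assoc, D.map_comp]
    rfl
  rw [(he j i₀ (b ≫ a.hom)).closure_eq_preimage_closure_image, Set.mem_preimage, ← h1,
    heq k (φ ≫ b), ← heq j b]
  exact subset_closure ⟨y, rfl⟩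

end LimComp13
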